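import Cfsg.Agent.Mat.Golay2
import Cfsg.Prelude.Def_Spor_Conway

/-! The rank-24 lattice: a membership test, inner products, and automorphisms from integer matrices. -/

set_option autoImplicit false

namespace Cfsg.Agent.Leech

open Cfsg.Agent.M11 Cfsg.Agent.Mat

/-- A bit of a mask as an integer. -/
def bit (c : ℕ) (p : GolayPt) : ℤ := if c.testBit (idx p) then 1 else 0

theorem bit_xor (a b : ℕ) (p : GolayPt) : (bit (a ^^^ b) p - bit a p - bit b p) % 2 = 0 := by
  unfold bit
  rw [Nat.testBit_xor]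
  cases a.testBit (idx p) <;> cases b.testBit (idx p) <;> decide

theorem bit_cases (c : ℕ) (p : GolayPt) : bit c p = 0 ∨ bit c p = 1 := by
  unfold bit; split_ifs <;> simp

theorem bit_ones (c : ℕ) (p : GolayPt) : bit (c ^^^ 16777215) p = 1 - bit c p := by
  have h : (16777215).testBit (idx p) = true := by revert p; decide +kernel
  unfold bit
  rw [Nat.testBit_xor, h]
  cases c.testBit (idx p) <;> decide

theorem sum_bit (c : ℕ) : ∑ p, bit c p = wt c := by
  rw [wt_eq, Finset.card_filter]
  push_cast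
  rfl

/-- The masks of the code words. -/
abbrev IsCw (c : ℕ) : Prop := inSpan (bas.map Prod.fst) c

theorem isCw_ones : IsCw 16777215 := inSpan_of_red (by decide +kernel)

/-- The lattice described by congruences. -/
def Lam : AddSubgroup (GolayPt → ℤ) where
  carrier := {x | ∃ (m : ℤ) (c : ℕ), IsCw c ∧ (∀ p, (x p - m - 2 * bit c p) % 4 = 0) ∧ (∑ p, x p - 4 * m) % 8 = 0}
  zero_mem' := ⟨0, 0, inSpan_zero _, fun p => by simp [bit], by simp⟩
  add_mem' := by
    rintro x y ⟨m, c, h1, h2, h3⟩ ⟨m', c', h1', h2', h3'⟩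
    refine ⟨m + m', c ^^^ c', h1.xor h1', fun p => ?_, ?_⟩
    · have := h2 p; have := h2' p; have := bit_xor c c' p
      rw [Pi.add_apply]; omega
    · simp only [Pi.add_apply, Finset.sum_add_distrib]; omega
  neg_mem' := by
    rintro x ⟨m, c, h1, h2, h3⟩
    refine ⟨-m, c, h1, fun p => ?_, ?_⟩
    · have := h2 p
      rw [Pi.neg_apply]; omega
    · simp only [Pi.neg_apply, Finset.sum_neg_distrib]; omega

theorem mem_supports {s : Finset GolayPt} :
    s ∈ supports (golayCode : Set (GolayPt → ZMod 2)) ↔ ∃ c, IsCw c ∧ ∀ p, p ∈ s ↔ bit c p = 1 := by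
  constructor
  · rintro ⟨w, hw, rfl⟩
    obtain ⟨c, hc, rfl⟩ := mem_golay.mp hw
    refine ⟨c, hc, fun p => ?_⟩
    rw [support₂, Finset.mem_filter]
    simp only [Finset.mem_univ, true_and, wOf, bit]
    cases c.testBit (idx p) <;> decide
  · rintro ⟨c, hc, h⟩
    refine ⟨wOf c, mem_golay.mpr ⟨c, hc, rfl⟩, Finset.ext fun p => ?_⟩
    rw [h]
    rw [support₂, Finset.mem_filter]
    simp only [Finset.mem_univ, true_and, wOf, bit]
    cases c.testBit (idx p) <;> decide

theorem leech_eq : leechLattice = Lam := by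
  refine le_antisymm ((AddSubgroup.closure_le _).mpr ?_) fun x hx => AddSubgroup.subset_closure ?_
  · rintro x ⟨m, h1, h2, h3⟩
    obtain ⟨c, hc, h4⟩ := mem_supports.mp (h3 (m + 2))
    refine ⟨m, c, hc, fun p => ?_, by unfold Int.ModEq at h2; omega⟩
    have h5 := h4 p
    have h6 := h1 p
    rw [Finset.mem_filter] at h5
    simp only [Finset.mem_univ, true_and, Int.ModEq] at h5 h6
    rcases bit_cases c p with e | e
    · have : ¬ x p % 4 = (m + 2) % 4 := fun h => by have := h5.mp h; omega
      omega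
    · have := h5.mpr e
      omega
  · obtain ⟨m, c, h1, h2, h3⟩ := hx
    refine ⟨m, fun p => by have := h2 p; unfold Int.ModEq; omega, by unfold Int.ModEq; omega, fun k => ?_⟩
    simp only [mem_supports, Finset.mem_filter, Finset.mem_univ, true_and]
    unfold Int.ModEq
    by_cases e1 : (k - m) % 4 = 0
    · refine ⟨_, h1.xor isCw_ones, fun p => ?_⟩
      have := h2 p; have := bit_cases c p
      rw [bit_ones]; omega
    by_cases e2 : (k - m) % 4 = 2
    · refine ⟨_, h1, fun p => ?_⟩
      have := h2 p; have := bit_cases c p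
      omega
    · refine ⟨0, inSpan_zero _, fun p => ?_⟩
      have := h2 p
      have : bit 0 p = 0 := by simp [bit]
      omega

theorem mem_leech {x : GolayPt → ℤ} : x ∈ leechLattice ↔ x ∈ Lam := by rw [leech_eq]

/-- The normal form of the congruences. -/
theorem exists_norm {x : GolayPt → ℤ} (hx : x ∈ leechLattice) : ∃ (m : ℤ) (c : ℕ), (m = 0 ∨ m = 1) ∧ IsCw c ∧
    (∀ p, (x p - m - 2 * bit c p) % 4 = 0) ∧ (∑ p, x p - 4 * m) % 8 = 0 := by
  obtain ⟨m, c, h1, h2, h3⟩ := mem_leech.mp hx
  by_cases e : m % 4 < 2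
  · exact ⟨m % 2, c, by omega, h1, fun p => by have := h2 p; omega, by omega⟩
  · refine ⟨m % 2, _, by omega, h1.xor isCw_ones, fun p => ?_, by omega⟩
    have := h2 p
    rw [bit_ones]; omega

theorem sqNorm_add (x y : GolayPt → ℤ) : sqNorm (x + y) = sqNorm x + sqNorm y + 2 * dotInt x y := by
  simp only [sqNorm, dotInt, Finset.mul_sum, ← Finset.sum_add_distrib, Pi.add_apply]
  exact Finset.sum_congr rfl fun i _ => by ring

theorem dot_map {g : Equiv.Perm leechLattice} (hg : g ∈ Co0) (a b : leechLattice) :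
    dotInt (g a : GolayPt → ℤ) (g b) = dotInt (a : GolayPt → ℤ) b := by
  have h1 := hg.2 (a + b)
  rw [hg.1, AddSubgroup.coe_add, AddSubgroup.coe_add, sqNorm_add, sqNorm_add, hg.2, hg.2] at h1
  omega

/-- A vector given by a list. -/
def vec (l : List ℤ) : GolayPt → ℤ := fun p => l.getD (idx p) 0

/-- The mask of a vector. -/
def msk (x : GolayPt → ℤ) : ℕ :=
  @Nat.rec (fun _ => ℕ) 0 (fun i acc => if (x (pt i) - x none) % 4 = 0 then acc else acc + 2 ^ i) 24

/-- The membership test. -/
def inL (x : GolayPt → ℤ) : Prop :=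
  red bas (msk x) = 0 ∧ (∀ p, (x p - x none - 2 * bit (msk x) p) % 4 = 0) ∧ (∑ p, x p - 4 * x none) % 8 = 0

instance decInL : DecidablePred inL := fun _ => instDecidableAnd

theorem inL.mem {x : GolayPt → ℤ} (h : inL x) : x ∈ leechLattice := mem_leech.mpr ⟨_, _, inSpan_of_red h.1, h.2⟩

/-- Generators of the lattice. -/
def gen (i : ℕ) : GolayPt → ℤ := fun p =>
  if i < 24 then (if p = none then 4 else 0) + (if idx p = i then 4 else 0)
  else if i < 36 then 2 * bit ((bas.map Prod.fst).getD (i - 24) 0) p else if p = none then -3 else 1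

theorem le_of_gen {S : AddSubgroup (GolayPt → ℤ)} (h : ∀ i < 37, gen i ∈ S) : leechLattice ≤ S := by
  have h1 : ∀ x : GolayPt → ℤ, (∀ p, x p % 4 = 0) → (∑ p, x p) % 8 = 0 → x ∈ S := fun x h1 h2 => by
    have h3 : x = ∑ q, (x q / 4) • gen (idx q) - ((∑ q, x q) / 8) • gen 23 := by
      ext p
      have h4 : ∀ q, gen (idx q) p = (if p = none then 4 else 0) + if q = p then 4 else 0 := by
        revert p; decide +kernel
      have h5 : gen 23 p = if p = none then 8 else 0 := by revert p; decide +kernel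
      have h6 : ∑ q, x q / 4 * 4 = ∑ q, x q := Finset.sum_congr rfl fun q _ => by have := h1 q; omega
      simp only [Pi.sub_apply, Finset.sum_apply, Pi.smul_apply, smul_eq_mul, h4, h5, mul_add, Finset.sum_add_distrib,
        mul_ite, mul_zero, Finset.sum_ite_eq', Finset.mem_univ, if_true]
      have := h1 p
      split_ifs
      · rw [h6]; omega
      · simp only [Finset.sum_const_zero]; omega
    rw [h3]
    exact sub_mem (sum_mem fun q _ => S.zsmul_mem (h _ ((eG q).2.trans (by decide))) _)
      (S.zsmul_mem (h 23 (by decide)) _)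
  have h2 : ∀ (bs : List ℕ), (∀ b ∈ bs, (fun p => 2 * bit b p) ∈ S ∧ (∑ p, 2 * bit b p) % 8 = 0) →
      ∀ c, inSpan bs c → ∀ x : GolayPt → ℤ, (∀ p, (x p - 2 * bit c p) % 4 = 0) → (∑ p, x p) % 8 = 0 → x ∈ S := by
    intro bs
    induction bs with
    | nil =>
      intro _ c hc x h3 h4
      rw [show c = 0 from hc] at h3
      exact h1 x (fun p => by simpa [bit] using h3 p) h4
    | cons b bs ih =>
      intro hb c hc x h3 h4
      have hb' := fun a ha => hb a (List.mem_cons_of_mem _ ha)
      rcases hc with hc | hc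
      · exact ih hb' c hc x h3 h4
      · obtain ⟨h5, h6⟩ := hb b List.mem_cons_self
        have := add_mem (ih hb' _ hc (x - fun p => 2 * bit b p) (fun p => by
          have := h3 p; have := bit_xor c b p
          rw [Pi.sub_apply]; omega) (by simp only [Pi.sub_apply, Finset.sum_sub_distrib]; omega)) h5
        rwa [sub_add_cancel] at this
  intro x hx
  obtain ⟨m, c, h3, h4, h5⟩ := mem_leech.mp hx
  have h6 : ∀ p, gen 36 p = if p = none then -3 else 1 := fun _ => rfl
  have h7 : ∑ p, gen 36 p = 20 := by decide +kernel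
  have := add_mem (h2 _ (fun b hb => ?_) c h3 (x - m • gen 36) (fun p => ?_) ?_) (S.zsmul_mem (h 36 (by decide)) m)
  · rwa [sub_add_cancel] at this
  · obtain ⟨i, hi, e, e'⟩ := (by decide +kernel : ∀ b ∈ bas.map Prod.fst, ∃ i < 37,
      (∀ p, gen i p = 2 * bit b p) ∧ (∑ p, 2 * bit b p) % 8 = 0) b hb
    exact ⟨funext e ▸ h i hi, e'⟩
  · have := h4 p
    rw [Pi.sub_apply, Pi.smul_apply, h6, smul_eq_mul]
    split_ifs <;> omega
  · simp only [Pi.sub_apply, Pi.smul_apply, smul_eq_mul, Finset.sum_sub_distrib, ← Finset.mul_sum, h7]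
    omega

/-- One eighth of the product of a matrix and a vector. -/
def app (A : Matrix GolayPt GolayPt ℤ) (x : GolayPt → ℤ) : GolayPt → ℤ := fun p => (∑ q, A p q * x q) / 8

/-- The test that a matrix maps the lattice into eight times itself. -/
def Good (A : Matrix GolayPt GolayPt ℤ) : Prop :=
  ∀ i < 37, (∀ p, (∑ q, A p q * gen i q) % 8 = 0) ∧ inL (app A (gen i))

instance decGood : DecidablePred Good := fun _ => Nat.decidableBallLT _ _

theorem Good.spec {A : Matrix GolayPt GolayPt ℤ} (h : Good A) {x : GolayPt → ℤ} (hx : x ∈ leechLattice) :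
    app A x ∈ leechLattice ∧ A.mulVec x = (8 : ℤ) • app A x := by
  obtain ⟨y, hy, e⟩ := le_of_gen (S := (leechLattice.map (zsmulAddGroupHom 8)).comap A.mulVecLin.toAddMonoidHom)
    (fun i hi => ⟨_, (h i hi).2.mem, funext fun p => by
      have := (h i hi).1 p
      show 8 * ((∑ q, A p q * gen i q) / 8) = ∑ q, A p q * gen i q
      omega⟩) hx
  have e' : app A x = y := funext fun p => by
    have : 8 * y p = ∑ q, A p q * x q := congrFun e p
    unfold app; omega
  rw [e']
  exact ⟨hy, e.symm⟩

theorem exists_Co0 {A : Matrix GolayPt GolayPt ℤ} (h : Good A) (h' : Good A.transpose)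
    (hA : ∀ p q, ∑ r, A r p * A r q = if p = q then 64 else 0) :
    ∃ g ∈ Co0, ∀ x : leechLattice, (g x : GolayPt → ℤ) = app A x := by
  have h1 : A.transpose * A = (64 : ℤ) • (1 : Matrix GolayPt GolayPt ℤ) := Matrix.ext fun p q => by
    rw [Matrix.mul_apply, Matrix.smul_apply, Matrix.one_apply, smul_eq_mul, mul_ite, mul_one, mul_zero, ← hA]
    rfl
  have h2 : ∀ {B C : Matrix GolayPt GolayPt ℤ}, Good B → Good C → C * B = (64 : ℤ) • (1 : Matrix GolayPt GolayPt ℤ) →
      ∀ x ∈ leechLattice, app C (app B x) = x := fun {B C} hB hC e x hx => by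
    have h3 := congrArg C.mulVec (hB.spec hx).2
    rw [Matrix.mulVec_mulVec, e, Matrix.mulVec_smul, (hC.spec (hB.spec hx).1).2, Matrix.smul_mulVec,
      Matrix.one_mulVec] at h3
    ext p
    have := congrFun h3 p
    simp only [Pi.smul_apply, smul_eq_mul] at this
    omega
  have h3 : ∀ x ∈ leechLattice, app A.transpose (app A x) = x := h2 h h' h1
  have h4 : ∀ x y, x ∈ leechLattice → y ∈ leechLattice → app A (x + y) = app A x + app A y := fun x y hx hy => by
    have h5 := (h.spec (add_mem hx hy)).2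
    rw [Matrix.mulVec_add, (h.spec hx).2, (h.spec hy).2] at h5
    ext p
    have := congrFun h5 p
    simp only [Pi.smul_apply, smul_eq_mul, Pi.add_apply] at this ⊢
    omega
  have h5 : A * A.transpose = (64 : ℤ) • (1 : Matrix GolayPt GolayPt ℤ) := by
    have h6 : A.transpose * (A * A.transpose - (64 : ℤ) • (1 : Matrix GolayPt GolayPt ℤ)) = 0 := by
      rw [mul_sub, ← mul_assoc, h1, smul_mul_assoc, mul_smul_comm, one_mul, mul_one, sub_self]
    have h7 : A.transpose.det ≠ 0 := fun e => by
      have := congrArg Matrix.det h1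
      rw [Matrix.det_mul, e, Matrix.det_smul] at this
      simp at this
    have h8 := congrArg (A.transpose.adjugate * ·) h6
    simp only [← mul_assoc, Matrix.adjugate_mul, mul_zero, smul_mul_assoc, one_mul, smul_eq_zero, h7, false_or] at h8
    exact sub_eq_zero.mp h8
  refine ⟨⟨fun x => ⟨_, (h.spec x.2).1⟩, fun x => ⟨_, (h'.spec x.2).1⟩, fun x => Subtype.ext (h3 x x.2),
    fun x => Subtype.ext (h2 h' h h5 x x.2)⟩, ⟨fun x y => Subtype.ext (h4 x y x.2 y.2), fun x => ?_⟩, fun x => rfl⟩
  show sqNorm (app A x) = _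
  have h6 : dotProduct (A.mulVec x) (A.mulVec x) = 64 * dotProduct x.1 x.1 := by
    rw [Matrix.dotProduct_mulVec, Matrix.vecMul_mulVec, h1, Matrix.vecMul_smul, Matrix.vecMul_one, smul_dotProduct,
      smul_eq_mul]
  rw [(h.spec x.2).2, smul_dotProduct, dotProduct_smul, smul_eq_mul, smul_eq_mul] at h6
  simp only [sqNorm, pow_two]
  unfold dotProduct at h6
  omega

end Cfsg.Agent.Leech
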